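import Mathlib

/-!
Minimal degree of a doubly transitive permutation group without the alternating group:
if `(m-1)^2 < n-1` some conjugate of an element of support `m` meets it in one point, and
the commutator is a three-cycle.
-/

set_option autoImplicit false

open scoped Classical

namespace Cfsg.Agent.MinDeg

open Equiv Finset

variable {α : Type*} [Fintype α]

theorem commutator_threeCycle (g h : Perm α) (x : α) (hgx : g x ≠ x) (hhx : h x ≠ x)
    (hone : ∀ y, g y ≠ y → h y ≠ y → y = x) :
    (g * h * g⁻¹ * h⁻¹).IsThreeCycle := by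
  have hgh : ∀ y, g y ≠ y → y ≠ x → h y = y := fun y hy hyx =>
    by_contra fun hh => hyx (hone y hy hh)
  have hhg : ∀ y, h y ≠ y → y ≠ x → g y = y := fun y hy hyx =>
    by_contra fun hh => hyx (hone y hh hy)
  have g1 : g (g x) ≠ g x := fun e => hgx (g.injective e)
  have h1 : h (h x) ≠ h x := fun e => hhx (h.injective e)
  have hga : h (g x) = g x := hgh _ g1 hgx
  have hhb : g (h x) = h x := hhg _ h1 hhx
  have hne : g x ≠ h x := fun e => g1 (by rw [e]; exact hhb)
  have happ : ∀ y, (g * h * g⁻¹ * h⁻¹) y = g (h (g⁻¹ (h⁻¹ y))) := fun y => rfl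
  have gg : ∀ y, g (g⁻¹ y) = y := fun y => g.apply_symm_apply y
  have hh : ∀ y, h (h⁻¹ y) = y := fun y => h.apply_symm_apply y
  have gi : ∀ y, g⁻¹ (g y) = y := fun y => g.symm_apply_apply y
  have hi : ∀ y, h⁻¹ (h y) = y := fun y => h.symm_apply_apply y
  have gfix : ∀ y, g y = y → g⁻¹ y = y := fun y e => by conv_lhs => rw [← e, gi]
  have hfix : ∀ y, h y = y → h⁻¹ y = y := fun y e => by conv_lhs => rw [← e, hi]
  -- image of x
  have cx : (g * h * g⁻¹ * h⁻¹) x = g x := by
    have hz : h⁻¹ x ≠ x := fun e => hhx (by conv_lhs => rw [← e, hh])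
    have hzT : h (h⁻¹ x) ≠ h⁻¹ x := by rw [hh]; exact fun e => hz e.symm
    have := hhg _ hzT hz
    rw [happ, gfix _ this, hh]
  have chx : (g * h * g⁻¹ * h⁻¹) (h x) = x := by
    have hz : g⁻¹ x ≠ x := fun e => hgx (by conv_lhs => rw [← e, gg])
    have hzT : g (g⁻¹ x) ≠ g⁻¹ x := by rw [gg]; exact fun e => hz e.symm
    rw [happ, hi, hgh _ hzT hz, gg]
  have cgx : (g * h * g⁻¹ * h⁻¹) (g x) = h x := by
    rw [happ, hfix _ hga, gi, hhb]
  have cfix : ∀ y, y ≠ x → y ≠ g x → y ≠ h x → (g * h * g⁻¹ * h⁻¹) y = y := by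
    intro y hy1 hy2 hy3
    rw [happ]
    have hz : h⁻¹ y ≠ x := fun e => hy3 (by rw [← e, hh])
    by_cases hy : h y = y
    · rw [hfix _ hy]
      have hw : g⁻¹ y ≠ x := fun e => hy2 (by rw [← e, gg])
      by_cases hgy : g y = y
      · rw [gfix _ hgy, hy, hgy]
      · have : g (g⁻¹ y) ≠ g⁻¹ y := by
          rw [gg]; intro e; apply hgy; conv_lhs => rw [e, gg]
        rw [hgh _ this hw, gg]
    · have hgy : g y = y := hhg _ hy hy1
      have : h (h⁻¹ y) ≠ h⁻¹ y := by
        rw [hh]; intro e; apply hy; conv_lhs => rw [e, hh]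
      rw [gfix _ (hhg _ this hz), hh, hgy]
  rw [← card_support_eq_three_iff]
  have : (g * h * g⁻¹ * h⁻¹).support = {x, g x, h x} := by
    ext y
    rw [Perm.mem_support]
    simp only [Finset.mem_insert, Finset.mem_singleton]
    constructor
    · intro hy
      by_contra hc
      push Not at hc
      exact hy (cfix y hc.1 hc.2.1 hc.2.2)
    · rintro (rfl | rfl | rfl)
      · rw [cx]; exact hgx
      · rw [cgx]; exact hne.symm
      · rw [chx]; exact hhx.symm
  rw [this, Finset.card_insert_of_notMem, Finset.card_insert_of_notMem, Finset.card_singleton]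
  · simpa using hne
  · simp only [Finset.mem_insert, Finset.mem_singleton, not_or]
    exact ⟨hgx.symm, hhx.symm⟩

theorem fibre_card {K : Subgroup (Perm α)} {x : α} (z : α)
    (htr : ∀ y, y ≠ x → ∃ k ∈ K, k z = y) (hfix : ∀ k ∈ K, k x = x) (y : α) (hy : y ≠ x)
    (hz : z ≠ x) :
    (univ.filter (fun k : K => (k : Perm α) z = y)).card =
      (univ.filter (fun k : K => (k : Perm α) z = z)).card := by
  obtain ⟨k0, hk0, he⟩ := htr y hy
  refine Finset.card_equiv (Equiv.mulLeft (⟨k0, hk0⟩⁻¹ : K)) fun k => ?_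
  simp only [Finset.mem_filter, Finset.mem_univ, true_and, Equiv.coe_mulLeft, Subgroup.coe_mul,
    InvMemClass.coe_inv, Perm.mul_apply]
  constructor
  · intro h; rw [h, ← he]; exact k0.symm_apply_apply z
  · intro h
    have := congrArg k0 h
    rw [he] at this
    rw [← this]; exact (k0.apply_symm_apply _).symm

/-- Doubly transitive case. -/
theorem two_transitive_bound (H : Subgroup (Perm α))
    (h2 : ∀ x u v : α, u ≠ x → v ≠ x → ∃ k ∈ H, k x = x ∧ k u = v)
    (hno : ∀ c ∈ H, ¬ c.IsThreeCycle) (g : Perm α) (hg : g ∈ H) (hg1 : g ≠ 1) :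
    Fintype.card α ≤ (g.support.card - 1) ^ 2 + 1 := by
  obtain ⟨x, hx⟩ : g.support.Nonempty := by
    rw [Finset.nonempty_iff_ne_empty]; exact fun h => hg1 (Perm.support_eq_empty_iff.1 h)
  set S' := g.support.erase x with hS'
  have hm : S'.card = g.support.card - 1 := Finset.card_erase_of_mem hx
  set K : Subgroup (Perm α) := H ⊓ MulAction.stabilizer (Perm α) x with hK
  have hfix : ∀ k ∈ K, k x = x := fun k hk => hk.2
  have htr : ∀ z, z ≠ x → ∀ y, y ≠ x → ∃ k ∈ K, k z = y := by
    intro z hz y hy
    obtain ⟨k, hk, h1, h2⟩ := h2 x z y hz hy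
    exact ⟨k, ⟨hk, h1⟩, h2⟩
  -- every element of K maps some point of S' into S'
  have hall : ∀ k : K, 1 ≤ (S'.filter (fun z => (k : Perm α) z ∈ S')).card := by
    intro k
    by_contra hc
    have hc : ∀ z ∈ S', (k : Perm α) z ∉ S' := by
      intro z hz hkz
      exact hc (Finset.card_pos.2 ⟨z, Finset.mem_filter.2 ⟨hz, hkz⟩⟩)
    have hkx : (k : Perm α) x = x := hfix _ k.2
    have hgx : g x ≠ x := Perm.mem_support.1 hx
    refine hno _ ?_ (commutator_threeCycle g ((k : Perm α) * g * (k : Perm α)⁻¹) x hgx ?_ ?_)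
    · have hkH : (k : Perm α) ∈ H := k.2.1
      exact H.mul_mem (H.mul_mem (H.mul_mem hg (H.mul_mem (H.mul_mem hkH hg) (H.inv_mem hkH)))
        (H.inv_mem hg)) (H.inv_mem (H.mul_mem (H.mul_mem hkH hg) (H.inv_mem hkH)))
    · have hkxi : (k : Perm α)⁻¹ x = x := by
        conv_lhs => rw [← hkx]
        exact (k : Perm α).symm_apply_apply x
      simp only [Perm.mul_apply, hkxi]
      intro e
      exact hgx ((k : Perm α).injective (by rw [e, hkx]))
    · intro y hy hy'
      by_contra hyx
      simp only [Perm.mul_apply] at hy'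
      have hz : g ((k : Perm α)⁻¹ y) ≠ (k : Perm α)⁻¹ y := fun e => hy' (by
        rw [e]; exact (k : Perm α).apply_symm_apply y)
      have hzx : (k : Perm α)⁻¹ y ≠ x := fun e => hyx (by
        have := (k : Perm α).apply_symm_apply y
        rw [show (k : Perm α).symm y = x from e, hkx] at this
        exact this.symm)
      refine hc _ (Finset.mem_erase.2 ⟨hzx, Perm.mem_support.2 hz⟩) ?_
      rw [show (k : Perm α) ((k : Perm α)⁻¹ y) = y from (k : Perm α).apply_symm_apply y]
      exact Finset.mem_erase.2 ⟨hyx, Perm.mem_support.2 hy⟩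
  -- double counting
  have hne : (univ.erase x : Finset α).card = Fintype.card α - 1 := by
    rw [Finset.card_erase_of_mem (Finset.mem_univ x), Finset.card_univ]
  have key : ∀ z ∈ S', (Fintype.card α - 1) *
      (univ.filter (fun k : K => (k : Perm α) z ∈ S')).card = S'.card * Fintype.card K := by
    intro z hz
    have hzx : z ≠ x := (Finset.mem_erase.1 hz).1
    set f := (univ.filter (fun k : K => (k : Perm α) z = z)).card
    have e1 : (univ.filter (fun k : K => (k : Perm α) z ∈ S')).card = S'.card * f := by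
      rw [Finset.card_eq_sum_card_fiberwise
        (s := univ.filter (fun k : K => (k : Perm α) z ∈ S')) (f := fun k : K => (k : Perm α) z)
        (t := S') (fun k hk => (Finset.mem_filter.1 hk).2)]
      rw [Finset.sum_congr rfl (g := fun _ => f) ?_, Finset.sum_const, smul_eq_mul]
      intro y hy
      rw [Finset.filter_filter]
      refine Eq.trans ?_ (fibre_card z (htr z hzx) hfix y (Finset.mem_erase.1 hy).1 hzx)
      congr 1
      ext k
      simp only [Finset.mem_filter, Finset.mem_univ, true_and]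
      exact ⟨fun h => h.2, fun h => ⟨h ▸ hy, h⟩⟩
    have e2 : Fintype.card K = (Fintype.card α - 1) * f := by
      rw [← Finset.card_univ, Finset.card_eq_sum_card_fiberwise
        (f := fun k : K => (k : Perm α) z) (t := univ.erase x) (fun k _ => Finset.mem_erase.2
          ⟨fun e => hzx ((k : Perm α).injective (e.trans (hfix _ k.2).symm)), Finset.mem_univ _⟩),
        Finset.sum_congr rfl (g := fun _ => f) (fun y hy =>
          fibre_card z (htr z hzx) hfix y (Finset.mem_erase.1 hy).1 hzx), Finset.sum_const, hne,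
        smul_eq_mul]
    rw [e1, e2]; ring
  have hswap : ∑ z ∈ S', (univ.filter (fun k : K => (k : Perm α) z ∈ S')).card =
      ∑ k : K, (S'.filter (fun z => (k : Perm α) z ∈ S')).card := by
    simp only [Finset.card_filter]; exact Finset.sum_comm
  have h3 : (Fintype.card α - 1) * Fintype.card K ≤ S'.card * S'.card * Fintype.card K := by
    calc (Fintype.card α - 1) * Fintype.card K
        ≤ (Fintype.card α - 1) * ∑ k : K, (S'.filter (fun z => (k : Perm α) z ∈ S')).card := by
          apply Nat.mul_le_mul_left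
          calc Fintype.card K = ∑ _k : K, 1 := by simp
            _ ≤ _ := Finset.sum_le_sum fun k _ => hall k
      _ = ∑ z ∈ S', (Fintype.card α - 1) *
            (univ.filter (fun k : K => (k : Perm α) z ∈ S')).card := by
          rw [← hswap, Finset.mul_sum]
      _ = ∑ _z ∈ S', S'.card * Fintype.card K := Finset.sum_congr rfl key
      _ = S'.card * S'.card * Fintype.card K := by simp [mul_assoc]
  have h4 := Nat.le_of_mul_le_mul_right h3 Fintype.card_pos
  rw [hm] at h4
  rw [pow_two]; omega

end Cfsg.Agent.MinDeg
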