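import Mathlib

/-!
Graphs invariant under a primitive permutation group: connectivity, distances, packing.
-/

set_option autoImplicit false

open scoped Classical

namespace Cfsg.Agent.MinDeg

open Equiv Finset

variable {α : Type*} [Fintype α]

/-- The graph is invariant under `H`. -/
def Inv (H : Subgroup (Perm α)) (X : SimpleGraph α) : Prop :=
  ∀ k ∈ H, ∀ u v, X.Adj u v → X.Adj (k u) (k v)

theorem inv_reachable {H : Subgroup (Perm α)} {X : SimpleGraph α} (hX : Inv H X) {k : Perm α}
    (hk : k ∈ H) {u v : α} (h : X.Reachable u v) : X.Reachable (k u) (k v) :=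
  h.map (⟨k, fun h => hX k hk _ _ h⟩ : X →g X)

theorem connected_of_primitive {H : Subgroup (Perm α)} (hprim : MulAction.IsPreprimitive H α)
    {X : SimpleGraph α} (hX : Inv H X) {a b : α} (hab : X.Adj a b) : X.Connected := by
  have hB : MulAction.IsBlock H {z | X.Reachable a z} := by
    rw [MulAction.isBlock_iff_smul_eq_or_disjoint]
    intro k
    by_cases hka : X.Reachable a ((k : Perm α) a)
    · left
      ext z
      constructor
      · rintro ⟨y, hy, rfl⟩
        exact hka.trans (inv_reachable hX k.2 hy)
      · intro hz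
        refine ⟨(k : Perm α)⁻¹ z, ?_, (k : Perm α).apply_symm_apply z⟩
        have := inv_reachable hX (H.inv_mem k.2) (hka.symm.trans hz)
        rwa [show (k : Perm α)⁻¹ ((k : Perm α) a) = a from (k : Perm α).symm_apply_apply a] at this
    · right
      rw [Set.disjoint_left]
      rintro z ⟨y, hy, rfl⟩ hz
      exact hka ((show X.Reachable a ((k : Perm α) y) from hz).trans (inv_reachable hX k.2 hy).symm)
  rcases hB.subsingleton_or_eq_univ with h | h
  · exact absurd (h (show a ∈ {z | X.Reachable a z} from SimpleGraph.Reachable.refl a)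
      (show b ∈ {z | X.Reachable a z} from hab.reachable)) hab.ne
  · have hall : ∀ z, X.Reachable a z := fun z => by
      have : z ∈ {z | X.Reachable a z} := h ▸ Set.mem_univ z
      exact this
    exact { preconnected := fun u v => (hall u).symm.trans (hall v), nonempty := ⟨a⟩ }

theorem dist_inv_le {H : Subgroup (Perm α)} {X : SimpleGraph α} (hX : Inv H X)
    (hc : X.Connected) {k : Perm α} (hk : k ∈ H) (u v : α) :
    X.dist (k u) (k v) ≤ X.dist u v := by
  obtain ⟨p, hp⟩ := hc.exists_walk_length_eq_dist u v
  rw [← hp, ← p.length_map (⟨k, fun h => hX k hk _ _ h⟩ : X →g X)]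
  exact SimpleGraph.dist_le _

theorem dist_inv {H : Subgroup (Perm α)} {X : SimpleGraph α} (hX : Inv H X)
    (hc : X.Connected) {k : Perm α} (hk : k ∈ H) (u v : α) :
    X.dist (k u) (k v) = X.dist u v := by
  refine le_antisymm (dist_inv_le hX hc hk u v) ?_
  have := dist_inv_le hX hc (H.inv_mem hk) (k u) (k v)
  rwa [show k⁻¹ (k u) = u from k.symm_apply_apply u,
    show k⁻¹ (k v) = v from k.symm_apply_apply v] at this

theorem exists_nearer {X : SimpleGraph α} (hc : X.Connected) {x u : α} (h : u ≠ x) :
    ∃ w, X.Adj u w ∧ X.dist x u = X.dist x w + 1 := by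
  obtain ⟨p, hp⟩ := hc.exists_walk_length_eq_dist u x
  cases p with
  | nil => exact absurd rfl h
  | @cons _ w _ hadj q =>
    refine ⟨w, hadj, ?_⟩
    have h1 : X.dist w x ≤ q.length := SimpleGraph.dist_le q
    have h2 : X.dist u x ≤ X.dist u w + X.dist w x := hc.dist_triangle
    have h3 : X.dist u w ≤ 1 := SimpleGraph.dist_le (SimpleGraph.Walk.cons hadj .nil)
    rw [SimpleGraph.Walk.length_cons] at hp
    rw [SimpleGraph.dist_comm (u := x), SimpleGraph.dist_comm (u := x) (v := w)]
    omega

theorem exists_dist_eq {X : SimpleGraph α} (hc : X.Connected) (x : α) :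
    ∀ (L : ℕ) (u : α), X.dist x u = L → ∀ i ≤ L, ∃ w, X.dist x w = i := by
  intro L
  induction L with
  | zero => intro u hu i hi; exact ⟨u, by omega⟩
  | succ L ih =>
    intro u hu i hi
    rcases Nat.lt_or_ge i (L + 1) with h | h
    · obtain ⟨w, -, hw⟩ := exists_nearer hc (x := x) (u := u) (fun e => by
        subst e; rw [SimpleGraph.dist_self] at hu; omega)
      exact ih w (by omega) i (by omega)
    · exact ⟨u, by omega⟩

theorem degree_inv {H : Subgroup (Perm α)} {X : SimpleGraph α} (hX : Inv H X) {k : Perm α}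
    (hk : k ∈ H) (u : α) :
    (univ.filter (X.Adj (k u))).card = (univ.filter (X.Adj u)).card := by
  refine (Finset.card_equiv k fun v => ?_).symm
  simp only [Finset.mem_filter, Finset.mem_univ, true_and]
  refine ⟨hX k hk u v, fun h => ?_⟩
  have := hX k⁻¹ (H.inv_mem hk) _ _ h
  rwa [show k⁻¹ (k u) = u from k.symm_apply_apply u,
    show k⁻¹ (k v) = v from k.symm_apply_apply v] at this

/-- Closed neighbourhoods of points at distance `0, 3, 6, …` are disjoint. -/
theorem packing {X : SimpleGraph α} (hc : X.Connected) (x : α) (k t : ℕ)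
    (hdeg : ∀ u, (univ.filter (X.Adj u)).card = k) (W : Finset α) {v : α}
    (ht : 3 * t ≤ X.dist x v) (hW : ∀ z, X.dist x z ≤ 3 * t + 1 → z ∈ W) :
    (t + 1) * (k + 1) ≤ W.card := by
  have hex : ∀ i, i ≤ t → ∃ w, X.dist x w = 3 * i := fun i hi =>
    exists_dist_eq hc x _ v rfl (3 * i) (by omega)
  have : Nonempty α := ⟨x⟩
  choose! w hw using hex
  set N : ℕ → Finset α := fun i => insert (w i) (univ.filter (X.Adj (w i))) with hN
  have hNd : ∀ i ≤ t, ∀ z ∈ N i, X.dist x z ≤ 3 * i + 1 ∧ 3 * i ≤ X.dist x z + 1 := by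
    intro i hi z hz
    rcases Finset.mem_insert.1 hz with rfl | hz
    · rw [hw i hi]; omega
    · have hadj := (Finset.mem_filter.1 hz).2
      have h1 : X.dist x z ≤ X.dist x (w i) + X.dist (w i) z := hc.dist_triangle
      have h2 : X.dist x (w i) ≤ X.dist x z + X.dist z (w i) := hc.dist_triangle
      rw [SimpleGraph.dist_eq_one_iff_adj.2 hadj, hw i hi] at h1
      rw [SimpleGraph.dist_eq_one_iff_adj.2 hadj.symm, hw i hi] at h2
      omega
  have hdis : Set.PairwiseDisjoint (↑(Finset.range (t + 1))) N := by
    intro i hi j hj hij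
    have hi : i ≤ t := by simp at hi; omega
    have hj : j ≤ t := by simp at hj; omega
    show Disjoint (N i) (N j)
    rw [Finset.disjoint_left]
    intro z hzi hzj
    have := hNd i hi z hzi
    have := hNd j hj z hzj
    omega
  calc (t + 1) * (k + 1) = ∑ i ∈ Finset.range (t + 1), (N i).card := by
        rw [Finset.sum_congr rfl (g := fun _ => k + 1) ?_]
        · simp
        · intro i _
          rw [hN, Finset.card_insert_of_notMem (by simp), hdeg]
    _ = ((Finset.range (t + 1)).biUnion N).card := (Finset.card_biUnion hdis).symm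
    _ ≤ W.card := by
        refine Finset.card_le_card fun z hz => ?_
        obtain ⟨i, hi, hz⟩ := Finset.mem_biUnion.1 hz
        have hi : i ≤ t := by simp at hi; omega
        exact hW z (by have := hNd i hi z hz; omega)

end Cfsg.Agent.MinDeg
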