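import Cfsg.Agent.MinDeg.InvGraph

/-!
Babai's bound: in a uniprimitive group every pair of distinct points is distinguished by at
least `(√n - 1)/2` points, so every nontrivial element moves that many points.
-/

set_option autoImplicit false

open scoped Classical

namespace Cfsg.Agent.MinDeg

open Equiv Finset

variable {α : Type*} [Fintype α] (H : Subgroup (Perm α))

/-- `v` is in the orbit of `u` under the stabilizer of `x`. -/
def Eqv (x u v : α) : Prop := ∃ k ∈ H, k x = x ∧ k u = v

/-- Points distinguishing `u` and `v`. -/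
noncomputable def dset (u v : α) : Finset α := univ.filter (fun x => ¬ Eqv H x u v)

/-- The suborbit of `u` at `x`. -/
noncomputable def orb (x u : α) : Finset α := univ.filter (fun v => Eqv H x u v)

/-- Pairs in a suborbit with more than three fifths of all points. -/
def Big (x u : α) : Prop := 3 * Fintype.card α < 5 * (orb H x u).card

variable {H}

theorem eqv_refl (x u : α) : Eqv H x u u := ⟨1, H.one_mem, rfl, rfl⟩

theorem eqv_symm {x u v : α} (h : Eqv H x u v) : Eqv H x v u := by
  obtain ⟨k, hk, h1, h2⟩ := h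
  refine ⟨k⁻¹, H.inv_mem hk, ?_, ?_⟩
  · conv_lhs => rw [← h1]
    exact k.symm_apply_apply x
  · rw [← h2]; exact k.symm_apply_apply u

theorem eqv_trans {x u v w : α} (h : Eqv H x u v) (h' : Eqv H x v w) : Eqv H x u w := by
  obtain ⟨k, hk, h1, h2⟩ := h
  obtain ⟨l, hl, h3, h4⟩ := h'
  exact ⟨l * k, H.mul_mem hl hk, by simp [h1, h3], by simp [h2, h4]⟩

theorem eqv_map {k : Perm α} (hk : k ∈ H) {x u v : α} (h : Eqv H x u v) :
    Eqv H (k x) (k u) (k v) := by
  obtain ⟨l, hl, h1, h2⟩ := h
  exact ⟨k * l * k⁻¹, H.mul_mem (H.mul_mem hk hl) (H.inv_mem hk), by simp [h1], by simp [h2]⟩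

theorem eqv_map_iff {k : Perm α} (hk : k ∈ H) {x u v : α} :
    Eqv H (k x) (k u) (k v) ↔ Eqv H x u v := by
  refine ⟨fun h => ?_, eqv_map hk⟩
  simpa using eqv_map (H.inv_mem hk) h

theorem dset_comm (u v : α) : dset H u v = dset H v u := by
  ext x; simp only [dset, Finset.mem_filter, Finset.mem_univ, true_and]
  exact not_congr ⟨eqv_symm, eqv_symm⟩

theorem dset_self (u : α) : dset H u u = ∅ := by
  ext x; simp [dset, eqv_refl]

theorem dset_triangle (u v w : α) : dset H u w ⊆ dset H u v ∪ dset H v w := by
  intro x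
  simp only [dset, Finset.mem_union, Finset.mem_filter, Finset.mem_univ, true_and]
  intro h
  by_contra hc
  push Not at hc
  exact h (eqv_trans hc.1 hc.2)

theorem card_dset_map {k : Perm α} (hk : k ∈ H) (u v : α) :
    (dset H (k u) (k v)).card = (dset H u v).card := by
  refine (Finset.card_equiv k fun x => ?_).symm
  simp [dset, eqv_map_iff hk]

theorem card_dset_le_support {g : Perm α} (hg : g ∈ H) (u : α) :
    (dset H u (g u)).card ≤ g.support.card := by
  refine Finset.card_le_card fun x hx => Perm.mem_support.2 fun e => ?_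
  exact (Finset.mem_filter.1 hx).2 ⟨g, hg, e, rfl⟩

theorem card_orb_map {k : Perm α} (hk : k ∈ H) (x u : α) :
    (orb H (k x) (k u)).card = (orb H x u).card := by
  refine (Finset.card_equiv k fun v => ?_).symm
  simp [orb, eqv_map_iff hk]

theorem mem_orb_self (x u : α) : u ∈ orb H x u := by simp [orb, eqv_refl]

theorem orb_eq {x u v : α} (h : Eqv H x u v) : orb H x u = orb H x v := by
  ext w; simp only [orb, Finset.mem_filter, Finset.mem_univ, true_and]
  exact ⟨fun h' => eqv_trans (eqv_symm h) h', fun h' => eqv_trans h h'⟩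

theorem big_eqv {x u v : α} (hu : Big H x u) (hv : Big H x v) : Eqv H x u v := by
  by_contra hc
  have hd : Disjoint (orb H x u) (orb H x v) := by
    rw [Finset.disjoint_left]
    intro w h1 h2
    exact hc (eqv_trans (Finset.mem_filter.1 h1).2 (eqv_symm (Finset.mem_filter.1 h2).2))
  have := Finset.card_le_univ (orb H x u ∪ orb H x v)
  rw [Finset.card_union_of_disjoint hd] at this
  unfold Big at hu hv
  omega

theorem orb_eq_big {x u : α} (hu : Big H x u) : orb H x u = univ.filter (Big H x) := by
  ext v
  simp only [orb, Finset.mem_filter, Finset.mem_univ, true_and]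
  refine ⟨fun h => ?_, fun h => big_eqv hu h⟩
  unfold Big
  rw [← orb_eq h]
  exact hu

theorem big_map {k : Perm α} (hk : k ∈ H) {x u : α} (h : Big H x u) : Big H (k x) (k u) := by
  unfold Big at *
  rwa [card_orb_map hk]

theorem not_big_self (hn : 2 ≤ Fintype.card α) (x : α) : ¬ Big H x x := by
  have h1 : orb H x x = {x} := by
    ext v
    simp only [orb, Finset.mem_filter, Finset.mem_univ, true_and, Finset.mem_singleton]
    refine ⟨fun ⟨k, _, h1, h2⟩ => h2 ▸ h1, ?_⟩
    rintro rfl
    exact eqv_refl v v
  unfold Big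
  rw [h1, Finset.card_singleton]
  omega

theorem big_symm (htr : ∀ u v : α, ∃ k ∈ H, k u = v) {x u : α} (h : Big H x u) : Big H u x := by
  set M := (orb H x u).card
  have hM : ∀ y, (univ.filter (fun v => Big H y v)).card = M := by
    intro y
    obtain ⟨k, hk, rfl⟩ := htr x y
    rw [← orb_eq_big (big_map hk h), card_orb_map hk]
  set N := fun y => (univ.filter (fun v => Big H v y)).card
  have hNmap : ∀ k ∈ H, ∀ y, N (k y) = N y := by
    intro k hk y
    refine (Finset.card_equiv k fun v => ?_).symm
    simp only [Finset.mem_filter, Finset.mem_univ, true_and]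
    refine ⟨big_map hk, fun h => ?_⟩
    simpa using big_map (H.inv_mem hk) h
  have hN : ∀ y, N y = N u := fun y => by
    obtain ⟨k, hk, rfl⟩ := htr u y
    exact hNmap k hk u
  have hsum : ∑ y, (univ.filter (fun v => Big H y v)).card = ∑ y, N y := by
    simp only [N, Finset.card_filter]; exact Finset.sum_comm
  simp only [hM, hN, Finset.sum_const, smul_eq_mul, Finset.card_univ] at hsum
  have hMN : M = N u := Nat.eq_of_mul_eq_mul_left (Fintype.card_pos_iff.2 ⟨x⟩) hsum
  have hsub : univ.filter (fun v => Big H v u) ⊆ orb H u x := by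
    intro v hv
    have hv : Big H v u := (Finset.mem_filter.1 hv).2
    obtain ⟨k, hk, hkx⟩ := htr x v
    obtain ⟨l, hl, hlx, hlu⟩ := big_eqv (x := v) (hkx ▸ big_map hk h) hv
    exact Finset.mem_filter.2 ⟨Finset.mem_univ _, l * k, H.mul_mem hl hk, by simp [hlu],
      by simp [hkx, hlx]⟩
  have := Finset.card_le_card hsub
  change N u ≤ (orb H u x).card at this
  unfold Big at h ⊢
  omega

/-- The orbital graph of a pair. -/
noncomputable def pairGraph (H : Subgroup (Perm α)) (a b : α) : SimpleGraph α where
  Adj u v := u ≠ v ∧ ∃ k ∈ H, k a = u ∧ k b = v ∨ k a = v ∧ k b = u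
  symm := ⟨fun u v ⟨h, k, hk, h'⟩ => ⟨h.symm, k, hk, h'.symm⟩⟩
  loopless := ⟨fun u h => h.1 rfl⟩

theorem pairGraph_inv (a b : α) : Inv H (pairGraph H a b) := by
  rintro l hl u v ⟨hne, k, hk, h⟩
  refine ⟨fun e => hne (l.injective e), l * k, H.mul_mem hl hk, ?_⟩
  rcases h with ⟨h1, h2⟩ | ⟨h1, h2⟩
  · exact Or.inl ⟨by simp [h1], by simp [h2]⟩
  · exact Or.inr ⟨by simp [h1], by simp [h2]⟩

theorem pairGraph_dset {a b u v : α} (h : (pairGraph H a b).Adj u v) :
    (dset H u v).card = (dset H a b).card := by
  obtain ⟨_, k, hk, h⟩ := h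
  rcases h with ⟨rfl, rfl⟩ | ⟨rfl, rfl⟩
  · exact card_dset_map hk a b
  · rw [dset_comm, card_dset_map hk a b]

theorem dset_le_dist {a b : α} (hc : (pairGraph H a b).Connected) (x : α) :
    ∀ (L : ℕ) (u : α), (pairGraph H a b).dist x u = L →
      (dset H x u).card ≤ L * (dset H a b).card := by
  intro L
  induction L with
  | zero =>
    intro u hu
    rw [hc.dist_eq_zero_iff] at hu
    simp [hu, dset_self]
  | succ L ih =>
    intro u hu
    obtain ⟨w, hadj, hw⟩ := exists_nearer hc (x := x) (u := u) (fun e => by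
      subst e; rw [SimpleGraph.dist_self] at hu; omega)
    refine le_trans (Finset.card_le_card (dset_triangle x w u))
      (le_trans (Finset.card_union_le _ _) ?_)
    rw [dset_comm w u, pairGraph_dset hadj]
    have := ih w (by omega)
    rw [Nat.succ_mul]
    omega

theorem degree_mul_dset {a b : α} (hc : (pairGraph H a b).Connected) (k : ℕ)
    (hdeg : ∀ u, (univ.filter ((pairGraph H a b).Adj u)).card = k) :
    2 * (Fintype.card α - 1) ≤ k * (dset H a b).card := by
  set X := pairGraph H a b
  set P := (univ : Finset (α × α)).filter (fun p => X.Adj p.1 p.2)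
  have hP : P.card = Fintype.card α * k := by
    simp only [P, Finset.card_filter, Fintype.sum_prod_type]
    simp only [← Finset.card_filter, hdeg]
    simp
  have hswap : ∑ p ∈ P, (univ.filter (fun x => X.dist x p.1 ≠ X.dist x p.2)).card =
      ∑ x, (P.filter (fun p => X.dist x p.1 ≠ X.dist x p.2)).card := by
    simp only [Finset.card_filter]; exact Finset.sum_comm
  have hlow : ∀ x, 2 * (Fintype.card α - 1) ≤
      (P.filter (fun p => X.dist x p.1 ≠ X.dist x p.2)).card := by
    intro x
    have hex : ∀ u, u ≠ x → ∃ w, X.Adj u w ∧ X.dist x u = X.dist x w + 1 :=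
      fun u hu => exists_nearer hc hu
    have : Nonempty α := ⟨x⟩
    choose! w hw1 hw2 using hex
    set A := (univ.erase x).image (fun u => (u, w u))
    set B := (univ.erase x).image (fun u => (w u, u))
    have hA : A.card = Fintype.card α - 1 := by
      rw [Finset.card_image_of_injective _ (fun u v h => (Prod.ext_iff.1 h).1),
        Finset.card_erase_of_mem (Finset.mem_univ x), Finset.card_univ]
    have hB : B.card = Fintype.card α - 1 := by
      rw [Finset.card_image_of_injective _ (fun u v h => (Prod.ext_iff.1 h).2),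
        Finset.card_erase_of_mem (Finset.mem_univ x), Finset.card_univ]
    have hd : Disjoint A B := by
      rw [Finset.disjoint_left]
      intro p hp hp'
      obtain ⟨u, hu, rfl⟩ := Finset.mem_image.1 hp
      obtain ⟨v, hv, he⟩ := Finset.mem_image.1 hp'
      obtain ⟨e1, e2⟩ := Prod.ext_iff.1 he
      simp only at e1 e2
      have h1 := hw2 u (Finset.mem_erase.1 hu).1
      have h2 := hw2 v (Finset.mem_erase.1 hv).1
      rw [e1, e2] at h2
      omega
    rw [two_mul]
    conv_lhs => arg 1; rw [← hA]
    rw [← hB, ← Finset.card_union_of_disjoint hd]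
    refine Finset.card_le_card (Finset.union_subset ?_ ?_)
    all_goals
      intro p hp
      obtain ⟨u, hu, rfl⟩ := Finset.mem_image.1 hp
      have hu := (Finset.mem_erase.1 hu).1
      have := hw2 u hu
      simp only [P, Finset.mem_filter, Finset.mem_univ, true_and]
      first
        | exact ⟨hw1 u hu, by omega⟩
        | exact ⟨(hw1 u hu).symm, by omega⟩
  have hup : ∀ p ∈ P, (univ.filter (fun x => X.dist x p.1 ≠ X.dist x p.2)).card ≤
      (dset H a b).card := by
    intro p hp
    rw [← pairGraph_dset (Finset.mem_filter.1 hp).2]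
    refine Finset.card_le_card fun x hx => ?_
    simp only [dset, Finset.mem_filter, Finset.mem_univ, true_and] at hx ⊢
    rintro ⟨l, hl, h1, h2⟩
    apply hx
    conv_rhs => rw [← h1, ← h2, dist_inv (pairGraph_inv a b) hc hl]
  have h1 := Finset.sum_le_sum hup
  rw [hswap, Finset.sum_const, smul_eq_mul, hP] at h1
  have h2 := Finset.sum_le_sum (s := (univ : Finset α)) (fun x _ => hlow x)
  rw [Finset.sum_const, smul_eq_mul, Finset.card_univ] at h2
  have h3 := le_trans h2 h1
  rw [mul_assoc (Fintype.card α)] at h3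
  exact Nat.le_of_mul_le_mul_left h3 (Fintype.card_pos_iff.2 ⟨a⟩)

theorem arith_small {n D k L : ℕ} (h1 : (L + 1) * (k + 1) ≤ 3 * n) (h2 : 2 * n ≤ 5 * (L * D))
    (h3 : 2 * (n - 1) ≤ k * D) : n ≤ (2 * D + 1) ^ 2 := by
  have e1 : (2 * n) * (2 * (n - 1)) ≤ (5 * (L * D)) * (k * D) := Nat.mul_le_mul h2 h3
  have e2 : L * k ≤ 3 * n := le_trans (Nat.mul_le_mul (by omega) (by omega)) h1
  have e3 : (5 * (L * D)) * (k * D) ≤ n * (15 * D ^ 2) := by
    have := Nat.mul_le_mul_right (5 * D ^ 2) e2
    calc (5 * (L * D)) * (k * D) = L * k * (5 * D ^ 2) := by ring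
      _ ≤ 3 * n * (5 * D ^ 2) := this
      _ = n * (15 * D ^ 2) := by ring
  rcases Nat.eq_zero_or_pos n with rfl | hn
  · exact Nat.zero_le _
  have e4 : 4 * (n - 1) ≤ 15 * D ^ 2 := by
    refine Nat.le_of_mul_le_mul_left ?_ hn
    calc n * (4 * (n - 1)) = (2 * n) * (2 * (n - 1)) := by ring
      _ ≤ _ := le_trans e1 e3
  have : (2 * D + 1) ^ 2 = 4 * D ^ 2 + 4 * D + 1 := by ring
  omega

theorem arith_big {n D k L r : ℕ} (hL : 2 ≤ L) (hr : 2 ≤ r)
    (hk : k ≤ r) (h1 : ((L - 2) / 3 + 1) * (k + 1) ≤ r + 1)
    (h2 : 2 * r ≤ 3 * (L * D)) (h3 : 2 * (n - 1) ≤ k * D) : n ≤ (2 * D + 1) ^ 2 := by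
  have hkL : 3 * (L * k) ≤ 16 * r := by
    rcases Nat.lt_or_ge L 3 with hL3 | hL3
    · have : L = 2 := by omega
      subst this
      omega
    · have e : 2 * L ≤ 9 * ((L - 2) / 3 + 1) := by omega
      have := Nat.mul_le_mul_right (k + 1) e
      rw [mul_assoc 9, mul_assoc 2 L (k + 1), Nat.mul_add L k 1, mul_one] at this
      omega
  have e1 : (2 * r) * (2 * (n - 1)) ≤ r * (16 * D ^ 2) := by
    refine le_trans (Nat.mul_le_mul h2 h3) ?_
    calc 3 * (L * D) * (k * D) = 3 * (L * k) * D ^ 2 := by ring
      _ ≤ 16 * r * D ^ 2 := Nat.mul_le_mul_right _ hkL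
      _ = r * (16 * D ^ 2) := by ring
  have e2 : 4 * (n - 1) ≤ 16 * D ^ 2 := by
    refine Nat.le_of_mul_le_mul_left ?_ (show 0 < r by omega)
    calc r * (4 * (n - 1)) = (2 * r) * (2 * (n - 1)) := by ring
      _ ≤ _ := e1
  have : (2 * D + 1) ^ 2 = 4 * D ^ 2 + 4 * D + 1 := by ring
  omega

theorem dset_bound (hprim : MulAction.IsPreprimitive H α)
    (h2 : ¬ ∀ x u v : α, u ≠ x → v ≠ x → ∃ k ∈ H, k x = x ∧ k u = v) {a b : α} (hab : a ≠ b) :
    Fintype.card α ≤ (2 * (dset H a b).card + 1) ^ 2 := by
  have htr : ∀ u v : α, ∃ k ∈ H, k u = v := fun u v => by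
    obtain ⟨k, hk⟩ := hprim.exists_smul_eq u v
    exact ⟨k, k.2, hk⟩
  set n := Fintype.card α with hn
  have hn2 : 2 ≤ n := Fintype.one_lt_card_iff.2 ⟨a, b, hab⟩
  set X := pairGraph H a b
  have hadj : X.Adj a b := ⟨hab, 1, H.one_mem, Or.inl ⟨rfl, rfl⟩⟩
  have hc : X.Connected := connected_of_primitive hprim (pairGraph_inv a b) hadj
  set k := (univ.filter (X.Adj a)).card with hk
  have hdeg : ∀ u, (univ.filter (X.Adj u)).card = k := fun u => by
    obtain ⟨l, hl, rfl⟩ := htr a u
    exact degree_inv (pairGraph_inv a b) hl a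
  have hkD := degree_mul_dset hc k hdeg
  by_cases hbig : ∀ x u, ¬ Big H x u
  · -- all suborbits are small
    have hex : ∃ u v, 2 * n ≤ 5 * (dset H u v).card := by
      by_contra hcon
      push Not at hcon
      have hswap : ∑ u, ∑ v, 5 * (dset H u v).card =
          ∑ x, ∑ u, 5 * (univ.filter (fun v => ¬ Eqv H x u v)).card := by
        simp only [dset, Finset.card_filter, Finset.mul_sum]
        rw [Finset.sum_comm (γ := α) (α := α)]
        rw [Finset.sum_congr rfl (fun v _ => Finset.sum_comm)]
        rw [Finset.sum_comm]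
        exact Finset.sum_congr rfl fun x _ => Finset.sum_comm
      have hlow : ∀ x u, 2 * n ≤ 5 * (univ.filter (fun v => ¬ Eqv H x u v)).card := by
        intro x u
        have := hbig x u
        unfold Big at this
        have h' := Finset.card_filter_add_card_filter_not (s := (univ : Finset α))
          (fun v => Eqv H x u v)
        rw [Finset.card_univ] at h'
        unfold orb at this
        omega
      have h1 : ∑ u : α, ∑ v : α, 5 * (dset H u v).card < ∑ _u : α, ∑ _v : α, 2 * n :=
        Finset.sum_lt_sum_of_nonempty ⟨a, Finset.mem_univ a⟩ fun u _ =>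
          Finset.sum_lt_sum_of_nonempty ⟨a, Finset.mem_univ a⟩ fun v _ => hcon u v
      have h2 : ∑ _x : α, ∑ _u : α, 2 * n ≤
          ∑ x, ∑ u, 5 * (univ.filter (fun v => ¬ Eqv H x u v)).card :=
        Finset.sum_le_sum fun x _ => Finset.sum_le_sum fun u _ => hlow x u
      omega
    obtain ⟨u, v, huv⟩ := hex
    have hD := dset_le_dist hc u _ v rfl
    set L := X.dist u v
    have hp := packing hc u k (L / 3) hdeg univ (v := v) (by omega) (fun _ _ => Finset.mem_univ _)
    rw [Finset.card_univ] at hp
    refine arith_small (k := k) (L := L) ?_ (by omega) hkD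
    have := Nat.mul_le_mul_right (k + 1) (show L + 1 ≤ 3 * (L / 3 + 1) by omega)
    rw [mul_assoc 3] at this
    omega
  · -- one huge suborbit
    push Not at hbig
    obtain ⟨x0, c0, hb0⟩ := hbig
    have hB : ∀ u, ∃ v, Big H u v := fun u => by
      obtain ⟨l, hl, rfl⟩ := htr x0 u
      exact ⟨_, big_map hl hb0⟩
    let R : SimpleGraph α :=
      { Adj := fun u v => u ≠ v ∧ ¬ Big H u v
        symm := ⟨fun u v h => ⟨h.1.symm, fun hv => h.2 (big_symm htr hv)⟩⟩
        loopless := ⟨fun u h => h.1 rfl⟩ }
    have hR : Inv H R := fun l hl u v h => ⟨fun e => h.1 (l.injective e), fun hv => h.2 (by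
      simpa using big_map (H.inv_mem hl) hv)⟩
    have hRmap : ∀ l ∈ H, ∀ u v, (R.Adj (l u) (l v) ↔ R.Adj u v) := fun l hl u v =>
      ⟨fun h => by simpa using hR _ (H.inv_mem hl) _ _ h, hR l hl u v⟩
    set r := (univ.filter (R.Adj a)).card with hr
    have hrdeg : ∀ u, (univ.filter (R.Adj u)).card = r := fun u => by
      obtain ⟨l, hl, rfl⟩ := htr a u
      convert! degree_inv hR hl a
    set M := (univ.filter (Big H a)).card with hM
    have hsplit : univ.erase a = univ.filter (R.Adj a) ∪ univ.filter (Big H a) := by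
      ext v
      simp only [Finset.mem_erase, Finset.mem_univ, and_true, Finset.mem_union,
        Finset.mem_filter, true_and]
      constructor
      · intro hv
        by_cases h : Big H a v
        · exact Or.inr h
        · exact Or.inl ⟨hv.symm, h⟩
      · rintro (h | h)
        · exact h.1.symm
        · exact fun e => not_big_self hn2 a (e ▸ h)
    have hsum : r + M + 1 = n := by
      have : (univ.erase a).card = r + M := by
        rw [hsplit, Finset.card_union_of_disjoint]
        rw [Finset.disjoint_left]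
        intro v h1 h2
        exact (Finset.mem_filter.1 h1).2.2 (Finset.mem_filter.1 h2).2
      rw [Finset.card_erase_of_mem (Finset.mem_univ a), Finset.card_univ] at this
      omega
    obtain ⟨c1, hc1⟩ := hB a
    have hM5 : 3 * n < 5 * M := by
      have := hc1
      unfold Big at this
      rwa [orb_eq_big hc1] at this
    -- `R` is nonempty
    have hrpos : ∃ v, R.Adj a v := by
      by_contra hcon
      apply h2
      intro x u v hu hv
      have hall : ∀ y z, z ≠ y → Big H y z := by
        intro y z hzy
        by_contra hb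
        obtain ⟨l, hl, rfl⟩ := htr a y
        exact hcon ⟨l⁻¹ z, (hRmap l hl a (l⁻¹ z)).1 (by
          rw [show l (l⁻¹ z) = z from l.apply_symm_apply z]; exact ⟨hzy.symm, hb⟩)⟩
      exact big_eqv (hall x u hu) (hall x v hv)
    obtain ⟨v0, hv0⟩ := hrpos
    have hRc : R.Connected := connected_of_primitive hprim hR hv0
    -- common neighbours of pairs in the huge suborbit
    set μ : α → ℕ := fun c => (univ.filter (fun w => R.Adj a w ∧ R.Adj c w)).card
    have hμeq : ∀ c c', Big H a c → Big H a c' → μ c = μ c' := by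
      intro c c' h h'
      obtain ⟨l, hl, h1, h2⟩ := big_eqv h h'
      refine Finset.card_equiv l fun w => ?_
      simp only [Finset.mem_filter, Finset.mem_univ, true_and]
      conv_rhs => rw [← h1, ← h2, hRmap l hl, hRmap l hl]
    obtain ⟨u2, hu2, hcn⟩ : ∃ u, Big H a u ∧ 0 < μ u := by
      obtain ⟨w2, hw2⟩ : ∃ w, R.dist a w = 2 := by
        refine exists_dist_eq hRc a _ c1 rfl 2 ?_
        by_contra hlt
        rcases Nat.lt_or_ge (R.dist a c1) 1 with h | h
        · rw [Nat.lt_one_iff, hRc.dist_eq_zero_iff] at h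
          rw [← h] at hc1
          exact not_big_self hn2 a hc1
        · exact (SimpleGraph.dist_eq_one_iff_adj.1 (show R.dist a c1 = 1 by omega)).2 hc1
      have hne : a ≠ w2 := fun e => by rw [e, SimpleGraph.dist_self] at hw2; omega
      obtain ⟨w1, hadj1, hd1⟩ := exists_nearer hRc (x := a) (u := w2) hne.symm
      refine ⟨w2, ?_, Finset.card_pos.2 ⟨w1, Finset.mem_filter.2
        ⟨Finset.mem_univ _, SimpleGraph.dist_eq_one_iff_adj.1 (by omega), hadj1⟩⟩⟩
      by_contra hb
      have := SimpleGraph.dist_eq_one_iff_adj.2 (show R.Adj a w2 from ⟨hne, hb⟩)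
      omega
    have hμM : μ u2 * M + r ≤ r * r := by
      have e1 : ∑ c ∈ univ.filter (Big H a), μ c = μ u2 * M := by
        rw [Finset.sum_congr rfl (g := fun _ => μ u2)
          (fun c hc' => hμeq c u2 (Finset.mem_filter.1 hc').2 hu2), Finset.sum_const, smul_eq_mul,
          mul_comm]
      have e2 : ∑ c ∈ univ.filter (Big H a), μ c = ∑ w ∈ univ.filter (R.Adj a),
          ((univ.filter (Big H a)).filter (fun c => R.Adj c w)).card := by
        simp only [μ, ← Finset.filter_filter, Finset.card_filter]
        exact Finset.sum_comm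
      have e3 : ∀ w ∈ univ.filter (R.Adj a),
          ((univ.filter (Big H a)).filter (fun c => R.Adj c w)).card + 1 ≤ r := by
        intro w hw
        rw [← hrdeg w]
        refine Finset.card_lt_card ⟨?_, fun h => ?_⟩
        · intro c hc'
          exact Finset.mem_filter.2 ⟨Finset.mem_univ _, (Finset.mem_filter.1 hc').2.symm⟩
        · have := h (Finset.mem_filter.2 ⟨Finset.mem_univ a, (Finset.mem_filter.1 hw).2.symm⟩)
          exact not_big_self hn2 a (Finset.mem_filter.1 (Finset.mem_filter.1 this).1).2
      have e4 := Finset.sum_le_sum e3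
      rw [Finset.sum_add_distrib, ← e2, e1, Finset.sum_const, Finset.sum_const, smul_eq_mul,
        smul_eq_mul, mul_one] at e4
      exact e4
    have hr2 : n ≤ r * r + 1 := by
      have := Nat.mul_le_mul_right M (show 1 ≤ μ u2 from hcn)
      omega
    have hr3 : 2 ≤ r := by
      rcases Nat.lt_or_ge r 2 with h | h
      · exfalso
        have hMμ := Nat.mul_le_mul_right M (show 1 ≤ μ u2 from hcn)
        have := Nat.mul_le_mul (show r ≤ 1 by omega) (le_refl r)
        omega
      · exact h
    have hDM : ∀ c, Big H a c → 2 * r ≤ 3 * (dset H a c).card := by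
      intro c hc'
      have hμr : 3 * μ c ≤ 2 * r := by
        rw [hμeq c u2 hc' hu2]
        have h3 : 3 * r < 2 * M := by omega
        by_contra hcon
        have hA : (μ u2) * (3 * r) ≤ μ u2 * (2 * M) := Nat.mul_le_mul_left _ (by omega)
        have hB : (2 * r + 1) * r ≤ (3 * μ u2) * r := Nat.mul_le_mul_right _ (by omega)
        rw [show μ u2 * (3 * r) = 3 * μ u2 * r by ring,
          show μ u2 * (2 * M) = 2 * (μ u2 * M) by ring] at hA
        rw [show (2 * r + 1) * r = 2 * (r * r) + r by ring] at hB
        omega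
      set A := univ.filter (R.Adj a)
      set C := univ.filter (R.Adj c)
      have hsub : (A \ C) ∪ (C \ A) ⊆ dset H a c := by
        intro x hx
        simp only [dset, Finset.mem_filter, Finset.mem_univ, true_and]
        rintro ⟨l, hl, h1, h2⟩
        have : R.Adj c x ↔ R.Adj a x := by
          conv_lhs => rw [← h1, ← h2, hRmap l hl]
        simp [A, C, this] at hx
      have hd : Disjoint (A \ C) (C \ A) := by
        rw [Finset.disjoint_left]
        intro x h1 h2
        exact (Finset.mem_sdiff.1 h1).2 (Finset.mem_sdiff.1 h2).1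
      have h' := Finset.card_le_card hsub
      rw [Finset.card_union_of_disjoint hd] at h'
      have hA := Finset.card_sdiff_add_card_inter A C
      have hC := Finset.card_sdiff_add_card_inter C A
      have hI : (A ∩ C).card = μ c := by simp only [A, C, μ, ← Finset.filter_and]
      rw [Finset.inter_comm C A, hI, hrdeg] at hC
      rw [hI, hrdeg] at hA
      omega
    -- nearest point of the huge suborbit
    obtain ⟨c, hcmem, hmin⟩ := Finset.exists_min_image (univ.filter (Big H a)) (fun c => X.dist a c)
      ⟨c1, by simpa using hc1⟩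
    have hcB : Big H a c := (Finset.mem_filter.1 hcmem).2
    have hD := dset_le_dist hc a _ c rfl
    have hDM' := hDM c hcB
    set L := X.dist a c
    rcases Nat.lt_or_ge L 2 with hL | hL
    · -- `L = 1`
      have hLD : L * (dset H a b).card ≤ (dset H a b).card := by
        conv_rhs => rw [← one_mul (dset H a b).card]
        exact Nat.mul_le_mul_right _ (by omega)
      have h3 : 2 * r ≤ 3 * (dset H a b).card := by omega
      have e : (2 * (dset H a b).card + 1) ^ 2 =
          4 * (dset H a b).card ^ 2 + 4 * (dset H a b).card + 1 := by ring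
      have e2 := Nat.mul_le_mul h3 h3
      rw [show 2 * r * (2 * r) = 4 * (r * r) by ring, show 3 * (dset H a b).card *
        (3 * (dset H a b).card) = 9 * (dset H a b).card ^ 2 by ring] at e2
      omega
    · have hW : ∀ z, X.dist a z ≤ L - 1 → z ∈ insert a (univ.filter (R.Adj a)) := by
        intro z hz
        by_cases hza : z = a
        · simp [hza]
        · refine Finset.mem_insert_of_mem (Finset.mem_filter.2
            ⟨Finset.mem_univ _, Ne.symm hza, fun hb => ?_⟩)
          have := hmin z (Finset.mem_filter.2 ⟨Finset.mem_univ _, hb⟩)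
          omega
      have hWc : (insert a (univ.filter (R.Adj a))).card = r + 1 :=
        Finset.card_insert_of_notMem (by simp)
      have hp := packing hc a k ((L - 2) / 3) hdeg _ (v := c) (by omega)
        (fun z hz => hW z (by omega))
      rw [hWc] at hp
      have hkr : k ≤ r := by
        have h1 : (univ.filter (X.Adj a)) ⊆ (univ.filter (R.Adj a)) := by
          intro z hz
          have hz := (Finset.mem_filter.1 hz).2
          have := hW z (by rw [SimpleGraph.dist_eq_one_iff_adj.2 hz]; omega)
          rcases Finset.mem_insert.1 this with rfl | h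
          · exact absurd hz (X.loopless.1 z)
          · exact h
        exact Finset.card_le_card h1
      exact arith_big hL hr3 hkr hp (by omega) hkD

/-- Babai's bound in support form. -/
theorem uniprimitive_bound (hprim : MulAction.IsPreprimitive H α)
    (h2 : ¬ ∀ x u v : α, u ≠ x → v ≠ x → ∃ k ∈ H, k x = x ∧ k u = v)
    {g : Perm α} (hg : g ∈ H) (hg1 : g ≠ 1) :
    Fintype.card α ≤ (2 * g.support.card + 1) ^ 2 := by
  obtain ⟨a, ha⟩ : g.support.Nonempty := by
    rw [Finset.nonempty_iff_ne_empty]; exact fun h => hg1 (Perm.support_eq_empty_iff.1 h)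
  refine le_trans (dset_bound hprim h2 (Ne.symm (Perm.mem_support.1 ha))) ?_
  exact Nat.pow_le_pow_left (by have := card_dset_le_support hg a; omega) 2

end Cfsg.Agent.MinDeg
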